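import Mathlib
import Cfsg.Agent.Lib.B7S.ED
import Cfsg.Agent.Lib.A7S.NC

/-! The end of class two. -/

set_option autoImplicit false

namespace H60M.A7

open Subgroup H69 H36.SW
open scoped commutatorElement

variable {G : Type*} [Group G] [Finite G]

namespace E7bH
open H25.A7.NC

theorem core {M : Type*} [Group M] [Finite M] [IsSimpleGroup M] (S : Sylow 2 M)
    (h1 : ¬ IsMulCommutative (S : Subgroup M))
    (h2 : ⁅(⊤ : Subgroup (S : Subgroup M)), ⊤⁆ ≤ center (S : Subgroup M)) (d128 : 128 ∣ Nat.card M)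
    (n512 : ¬ 512 ∣ Nat.card M) :
    ∃ (K : Type) (_ : Field K) (_ : Fintype K), Fintype.card K = 4 ∧ Nonempty (M ≃* Cfsg.PSp 2 K) := by
  have d64 : 64 ∣ Nat.card M := (by norm_num : 64 ∣ 128).trans d128
  rcases Cfsg.Agent.S1170.result S S ⟨le_rfl, fun _ _ _ h => h⟩ h1 h2 with
    ⟨k, _, _, hk, ⟨e⟩⟩ | ⟨k, _, _, q, hk, h2, h4, ⟨e⟩⟩ | e | ⟨k, _, _, _, ⟨e⟩⟩ | ⟨k, _, _, _, h4, ⟨e⟩⟩ | ⟨⟨e⟩⟩
  · have c := H10.card_PSL_two (F := k)
    rw [← Nat.card_congr e.toEquiv, Nat.card_eq_fintype_card (α := k)] at c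
    exact (l2 hk c d64).elim
  · exfalso
    obtain ⟨p, hp⟩ := CharP.exists k
    obtain ⟨f, pp, hf⟩ := FiniteField.card k p
    have p2 : p = 2 := by
      have : 2 ∣ p ^ (f : ℕ) := by
        rw [← hf, hk]; exact h2.two_dvd.trans (dvd_pow_self q two_ne_zero)
      exact ((Nat.prime_dvd_prime_iff_eq Nat.prime_two pp).1 (Nat.prime_two.dvd_of_dvd_pow this)).symm
    subst p2
    have : H11.U.IsSq k q := ⟨hk⟩
    obtain ⟨n, -, hn⟩ := (Nat.dvd_prime_pow Nat.prime_two).1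
      (show q ∣ 2 ^ (f : ℕ) by rw [← hf, hk]; exact dvd_pow_self q two_ne_zero)
    have c := H72.card_PSU_three k q
    rw [← Nat.card_congr e.toEquiv] at c
    rcases (show n = 0 ∨ n = 1 ∨ n = 2 ∨ 3 ≤ n by omega) with rfl | rfl | rfl | h
    · omega
    · omega
    · subst hn
      norm_num at c
      omega
    · exact n512 (big hn h (odd3 _) c)
  · exfalso
    obtain ⟨-, m, m1, c⟩ := e
    rcases (show m = 1 ∨ 2 ≤ m by omega) with rfl | h
    · norm_num at c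
      omega
    · refine n512 (c ▸ Dvd.dvd.mul_right (Dvd.dvd.mul_right ?_ _) _)
      rw [← pow_mul]
      exact pow_dvd_pow 2 (show 9 ≤ (2 * m + 1) * 2 by omega)
  · exfalso
    obtain ⟨n, n1, hn⟩ := fld k
    have c := H10.card_PSL_fin (F := k) 3 (by omega)
    rw [← Nat.card_congr e.toEquiv, Nat.card_eq_fintype_card (α := k), Fin.prod_univ_three] at c
    rcases (show n = 1 ∨ n = 2 ∨ 3 ≤ n by omega) with rfl | rfl | h
    · rw [hn] at c
      norm_num at c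
      omega
    · rw [hn] at c
      norm_num at c
      omega
    · refine n512 (big (c := Nat.gcd 3 (Fintype.card k - 1) * (Fintype.card k - 1))
        (r := (Fintype.card k ^ 3 - 1) * (Fintype.card k ^ 2 - 1) * (Fintype.card k - 1)) hn h
        ((odd3 _).mul (hn ▸ odd_pred n1)) ?_)
      rw [mul_assoc, c]
      generalize Fintype.card k = q
      have e1 : q ^ 3 - q ^ 1 = q * (q ^ 2 - 1) := by rw [Nat.mul_sub]; congr 1 <;> ring
      have e2 : q ^ 3 - q ^ 2 = q ^ 2 * (q - 1) := by rw [Nat.mul_sub]; congr 1 <;> ring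
      show (q ^ 3 - q ^ 0) * (q ^ 3 - q ^ 1) * (q ^ 3 - q ^ 2) = _
      rw [e1, e2, pow_zero]; ring
  · obtain ⟨n, n1, hn⟩ := fld k
    have c := (center (Matrix.symplecticGroup (Fin 2) k)).card_eq_card_quotient_mul_card_subgroup
    rw [Cfsg.Agent.S0245.result hn, Cfsg.Agent.S0246.result hn 2 (by norm_num),
      (Nat.coprime_two_left.2 (odd_pred n1)).gcd_eq_one, mul_one, ← Nat.card_congr e.toEquiv] at c
    rcases (show n = 1 ∨ n = 2 ∨ 3 ≤ n by omega) with rfl | rfl | h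
    · omega
    · exact ⟨k, inferInstance, inferInstance, hn, ⟨e⟩⟩
    · refine (n512 (big (c := 1) (q := 2 ^ n) rfl h odd_one (r := 2 ^ n * ∏ i ∈ Finset.range 2,
        ((2 ^ n) ^ (2 * (i + 1)) - 1)) ?_)).elim
      rw [one_mul, ← c]; ring
  · have c : Nat.card M = 2520 := by
      rw [Nat.card_congr e.toEquiv, Nat.card_eq_fintype_card, card_alternatingGroup]; simp [Nat.factorial]
    omega

end E7bH

namespace Fr

theorem EE.psp {F : Fr G} {u0 g v d1 d2 : G} (h : F.EE u0 g v d1 d2) (hu : F.u1 ≠ 1) : F.t ∉ F.E ∧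
    ∃ (K : Type) (_ : Field K) (_ : Fintype K), Fintype.card K = 4 ∧ Nonempty (F.E ≃* Cfsg.PSp 2 K) := by
  obtain ⟨d2, h⟩ := h.ek
  refine ⟨h.tE, ?_⟩
  have le : F.U g v d1 d2 ≤ F.E := by
    refine h.toEE.b_U_le ((closure_le _).2 ?_) F.v1E h.d1E F.v2E h.d2E
    rintro a (rfl | rfl | rfl | rfl)
    exacts [F.zE, h.uE, h.gE, h.vE]
  have e : (F.U g v d1 d2 ⊔ zpowers F.t) ⊓ F.E = F.U g v d1 d2 := le_antisymm
    (fun s hs => (h.c_mem hs.1).resolve_right fun m => h.tE ((mul_mem_cancel_left hs.2).1 (le m)))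
    (le_inf le_sup_left le)
  have := F.En
  have := F.Es
  have hU : IsSylowIn 2 (F.U g v d1 d2) F.E := e ▸ h.syl.inf_normal le_top (by rw [normalizer_eq_top])
  have cU : Nat.card (F.U g v d1 d2) = 128 ∨ Nat.card (F.U g v d1 d2) = 256 := by
    rw [h.cardU]
    rcases F.cardF0 with ⟨c2, -⟩ | ⟨-, c2⟩
    · exact absurd c2 hu
    rcases h.toEE.cardZ0 with ⟨-, c3⟩ | ⟨-, -, c3⟩ <;> omega
  obtain ⟨S, eS⟩ := hU.exists_sylow_subgroupOf
  have mS : ∀ x : (S : Subgroup F.E), ((x : F.E) : G) ∈ F.U g v d1 d2 := fun x => eS.le x.2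
  have hf := hU.card_eq_pow_factorization
  have k : ∀ j, 2 ^ j ∣ Nat.card F.E ↔ j ≤ (Nat.card F.E).factorization 2 := fun j =>
    Nat.prime_two.pow_dvd_iff_le_factorization Nat.card_pos.ne'
  have hn : 7 ≤ (Nat.card F.E).factorization 2 ∧ (Nat.card F.E).factorization 2 ≤ 8 := by
    rw [hf] at cU
    rcases cU with e | e
    · have := Nat.pow_right_injective le_rfl (show 2 ^ _ = 2 ^ 7 from e); omega
    · have := Nat.pow_right_injective le_rfl (show 2 ^ _ = 2 ^ 8 from e); omega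
  refine E7bH.core S (fun hc => F.b_nc12 ?_) ?_ ((k 7).2 hn.1) fun d => by have := (k 9).1 d; omega
  · have := hc.1.1 ⟨⟨F.v1, F.v1E⟩, by rw [eS]; exact h.toEE.b_v1U⟩ ⟨⟨F.v2, F.v2E⟩, by rw [eS]; exact h.toEE.b_v2U⟩
    exact congrArg (fun z : (S : Subgroup F.E) => ((z : F.E) : G)) this
  · refine commutator_le.2 fun x _ y _ => mem_center_iff.2 fun z => Subtype.ext (Subtype.ext ?_)
    exact mem_centralizer_iff.1 (h.Zc (h.comm (mS x) (mS y))).2 _ (mS z)

end Fr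

end H60M.A7
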