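import Mathlib
import Cfsg.Agent.Lib.B6S.Tw

/-! Standard subgroups of type `A₆`: the twisted case, with the position of `t`. -/

set_option autoImplicit false

namespace H60M.A6

open Subgroup H69 H36.SW

variable {G : Type*} [Group G] [Finite G]

namespace Fr

theorem CA.tw2 {F : Fr G} (c : F.CA) (h1 : ¬ F.XT) (h2 : ¬ F.sw.XT) :
    Cfsg.SectionalPRankLE 2 4 F.E ∨ (F.t ∈ F.E ∧ F.dl ≠ 1 ∧ Cfsg.Spor.IsoHS F.E) := by
  obtain ⟨a, b, h, k⟩ := c.exTA h1 h2
  by_cases d : F.dl = 1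
  · obtain ⟨a, b, p, q, um, um', η, η', h⟩ := h.exB
    exact .inl (h.tw.n1 d)
  · obtain ⟨a, b, p, um, η, h, db⟩ := h.exD (k d)
    obtain ⟨π, s⟩ := h.exS d db
    rcases s.hc with ⟨e, m, k⟩ | ⟨e, m, -⟩ | ⟨e, -⟩ | ⟨e, -⟩
    · refine .inr ⟨?_, d, s.hs e m⟩
      have k1 := F.comm_mem F.dl π
      rw [inv_eq_of_mul_eq_one_left s.ππ, k] at k1
      have ka : a ∈ F.E := s.tw.UE (subset_closure (by simp))
      have kb : b ∈ F.E := s.tw.UE (subset_closure (by simp))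
      rwa [mul_mem_cancel_right kb, mul_mem_cancel_right ka, mul_mem_cancel_right F.v2E,
        mul_mem_cancel_right F.v1E] at k1
    exacts [(s.sf e m).elim, (s.se e).elim, (s.se e).elim]

end Fr

end H60M.A6
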